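import Mathlib
import Cfsg.Agent.E72.Case

/-!
`E₇(2)`: certificate for the case A7.
-/

set_option autoImplicit false

namespace Cfsg.Agent.E72.CA7

open Cfsg.Lie Cfsg.Lie.ChevalleyDatum Cfsg.Agent.Chev Cfsg.Agent.Chev.Chk
open scoped Matrix

def TT : List (ℕ × ℕ) := [(72, 14178761949458877285487), (73, 33064472500658426466440), (74, 33064472500658426466440), (75, 113343877669548794945005), (76, 75558499065975848586513), (77, 151127763506709495204134), (78, 302236444929283755689275), (79, 944775544339669559532715057), (80, 629850366743965058186024675), (81, 1259700709421271746139095796), (82, 943566609411792077597426004), (83, 629850366743965058186024675), (84, 1259700709421271746139095796), (85, 2514565720278749454518139778), (86, 15087394238374249106866438156), (87, 10058262826089617325327199118), (88, 933290748655601335334449568), (89, 628641431817811057510001542), (90, 1257282858548082105186204558), (91, 22321606351694894531936140553), (92, 133774895512857018349908778465), (93, 89286425337679502111374103867),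 (94, 22321606351694894531936140553), (95, 123871375189746851182699566999), (96, 89286425337679502111374103867), (97, 158456325028771353496176065226), (98, 316912650068700743502587164383), (99, 1901475900358613788945513356797), (100, 1267650600244227480190051413769), (101, 17747108403211272757059905777509), (102, 17747108403211272757059905777509), (103, 15211807202750487104816565421179)]
def CS : Gens := [([63], tab 63), ([64], tab 64), ([66], tab 66), ([69], tab 69), ([73], tab 73), ([62], tab 62),
  ([61], tab 61), ([59], tab 59), ([56], tab 56), ([52], tab 52)]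
def EX : Gens := [([125], tab 125), ([0], tab 0), ([93], tab 93), ([119], tab 119)]
def bl : List (List ℕ) := [[93], [94], [95], [96], [97], [98], [119], [120], [121], [122], [123], [124]]
def bl' : List (List ℕ) := [[99], [100], [101], [102], [103], [104], [105], [106], [107], [108], [109], [110], [111],
  [112], [113], [114], [115], [116], [117], [118]]

theorem valid : Valid (CS ++ EX) :=
  List.forall_mem_cons.2 ⟨isT_single _, List.forall_mem_cons.2 ⟨isT_single _, List.forall_mem_cons.2 ⟨isT_single _,
  List.forall_mem_cons.2 ⟨isT_single _, List.forall_mem_cons.2 ⟨isT_single _, List.forall_mem_cons.2 ⟨isT_single _,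
  List.forall_mem_cons.2 ⟨isT_single _, List.forall_mem_cons.2 ⟨isT_single _, List.forall_mem_cons.2 ⟨isT_single _,
  List.forall_mem_cons.2 ⟨isT_single _, List.forall_mem_cons.2 ⟨isT_single _, List.forall_mem_cons.2 ⟨isT_single _,
  List.forall_mem_cons.2 ⟨isT_single _, List.forall_mem_cons.2 ⟨isT_single _, fun _ h => absurd h
  List.not_mem_nil⟩⟩⟩⟩⟩⟩⟩⟩⟩⟩⟩⟩⟩⟩
theorem dec : decChk CS EX [[93], [119]] bl bl' [(0, 1), (4, 1), (1, 1), (3, 1), (2, 1), (2, 1), (3, 1), (1, 1), (4,
  1), (0, 1)] = true := by decide +kernel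
theorem nor : norChk CS bl bl' [[4, 3, 1], [9, 8]] TT [0, 1, 1, 1, 1, 1, 1] 89131682845816137162516821187
  628641431817811057510001542 [(2, 0), (3, 1), (6, 2), (9, 3), (6, 2), (5, 2), (7, 3), (9, 4), (5, 3), (7, 3), (9, 4),
  (9, 4), (6, 2), (9, 3), (8, 2), (9, 2), (8, 2), (8, 1), (7, 0)] [(0, 0), (2, 1), (4, 2), (6, 3), (8, 4), (2, 4), (4,
  5), (8, 6), (3, 6), (4, 7), (6, 7), (8, 7), (1, 6), (3, 7), (4, 8), (7, 3), (3, 3), (4, 4), (2, 1)] = true :=
  by decide +kernel
theorem pro : proChk (CS ++ EX) [100433627766186892221372630771322662657641349168350354372329] [(11, 0), (10, 0), (12,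
  1), (13, 2), (12, 2), (13, 3), (4, 3), (13, 4), (0, 4), (4, 4), (0, 4), (3, 4), (13, 5), (0, 5), (1, 5), (3, 5), (1,
  5), (2, 5), (13, 6), (0, 6), (1, 6), (2, 6), (2, 6), (2, 6), (1, 6), (13, 7), (0, 7), (1, 7), (2, 7), (3, 7), (1,
  7), (3, 7), (0, 7), (13, 8), (0, 8), (1, 8), (2, 8), (3, 8), (4, 8), (0, 8), (4, 8), (13, 8), (0, 8), (1, 8), (2,
  8), (3, 8), (4, 8), (12, 8), (0, 6), (1, 6), (0, 6), (2, 7), (1, 7), (3, 8), (4, 8), (2, 5), (3, 4), (4, 3), (3, 2),
  (4, 2), (4, 1)] 7 = true := by decide +kernel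
theorem fix : fixChk (CS ++ EX) [0, 7, 8, 9, 10, 11, 12, 13, 14, 15, 16, 17, 18, 19, 20, 21, 22, 23, 24, 25, 26, 27,
  28, 29, 30, 31, 32, 33, 34, 35, 36, 37, 38, 39] [(11, 33), (11, 33), (11, 33), (11, 33), (11, 33), (11, 33), (11,
  33), (11, 33), (11, 33), (11, 33), (11, 33), (11, 33), (11, 33), (11, 33), (11, 33), (11, 33), (11, 33), (11, 33),
  (11, 33), (11, 33), (11, 33), (11, 33), (11, 33), (11, 33), (11, 33), (11, 33), (11, 33), (11, 33), (11, 33), (11,
  33), (11, 33), (11, 33), (11, 33), (12, 32), (12, 32), (12, 32), (12, 32), (12, 32), (12, 32), (12, 32), (13, 33),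
  (12, 33), (13, 34), (12, 34), (13, 35), (12, 35), (12, 35), (13, 36), (12, 36), (13, 37), (12, 37), (12, 37), (13,
  38), (12, 38), (12, 38), (13, 38), (13, 38), (13, 37), (13, 35), (13, 32), (13, 32), (13, 32), (13, 32), (13, 32),
  (4, 30), (4, 30), (4, 30), (4, 30), (4, 30), (4, 29), (0, 29), (4, 29), (0, 29)] = true := by decide +kernel
theorem big : Big (grp (CS ++ EX)) := big_of_chk valid (st := [(11, 0), (10, 0), (12, 1), (13, 2), (12, 2), (13, 3),
  (4, 3), (13, 4), (0, 4), (4, 4), (0, 4), (3, 4), (13, 5), (0, 5), (1, 5), (3, 5), (1, 5), (2, 5), (13, 6), (0, 6),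
  (1, 6), (2, 6), (2, 6), (2, 6), (1, 6), (13, 7)]) (by decide +kernel)
theorem cn : cntT bl (sbit (7 + 0)) = 127 := by decide +kernel
theorem ok : CaseOK (grp (CS ++ EX)) (spn (bl.map lm)) ∧ key (spn (bl.map lm)) = (12, 127) :=
  have h := case_of_chk valid dec nor (ne_of_proChk valid pro) (fix_of_chk valid fix)
  ⟨h.1, h.2.trans (congrArg _ cn)⟩

end Cfsg.Agent.E72.CA7
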