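import Mathlib
import Cfsg.Agent.E72.Case

/-!
`E₇(2)`: certificate for the case D6.
-/

set_option autoImplicit false

namespace Cfsg.Agent.E72.CD6

open Cfsg.Lie Cfsg.Lie.ChevalleyDatum Cfsg.Agent.Chev Cfsg.Agent.Chev.Chk
open scoped Matrix

def TT : List (ℕ × ℕ) := [(72, 14178761949458877285487), (73, 916148905808027716836537), (74, 963362819983477723889776), (75, 314641838945026942178376286), (76, 3144491616004520066393071728), (77, 6288983233328216385744560208), (78, 925591492814293390971020), (79, 340013834717910341293511), (80, 1284493590761894141653108), (81, 2568980692312513041035356), (82, 314320727904520778220120962), (83, 3143207142176809134051168260), (84, 6286414272365063453763047436), (85, 628641431817811057510001542), (86, 1257282858548082105186204558), (87, 10058267556566311797025371955), (88, 309485018138054446161468941), (89, 3094850105109320018750146670), (90, 6189700201295605464474261590), (91, 317531620089397931459936677117), (92, 635063240163782224540128666819), (93, 3812855330444177658586035377843),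 (94, 336719690695504922973366382676), (95, 673439381389198825939115896916), (96, 4040636307117533222482252878991), (97, 16558686003268492940330909058363), (98, 336719690695504922973366382676), (99, 673439381389198825939115896916), (100, 3882180284325510808119073729406), (101, 1426107567504703411203535111279), (102, 15211812038444104770130647233012), (103, 10141514286850338828279964073285)]
def CS : Gens := [([63], tab 63), ([66], tab 66), ([69], tab 69), ([73], tab 73), ([78], tab 78), ([92], tab 92),
  ([62], tab 62), ([59], tab 59), ([56], tab 56), ([52], tab 52), ([47], tab 47), ([33], tab 33)]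
def EX : Gens := [([125], tab 125), ([0], tab 0), ([97], tab 97)]
def bl : List (List ℕ) := [[97], [98], [101], [102], [104], [105], [106], [107], [110], [111], [112], [113], [115],
  [116], [119], [120]]
def bl' : List (List ℕ) := [[93], [94], [95], [96], [99], [100], [103], [108], [109], [114], [117], [118], [121],
  [122], [123], [124]]

theorem valid : Valid (CS ++ EX) :=
  List.forall_mem_cons.2 ⟨isT_single _, List.forall_mem_cons.2 ⟨isT_single _, List.forall_mem_cons.2 ⟨isT_single _,
  List.forall_mem_cons.2 ⟨isT_single _, List.forall_mem_cons.2 ⟨isT_single _, List.forall_mem_cons.2 ⟨isT_single _,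
  List.forall_mem_cons.2 ⟨isT_single _, List.forall_mem_cons.2 ⟨isT_single _, List.forall_mem_cons.2 ⟨isT_single _,
  List.forall_mem_cons.2 ⟨isT_single _, List.forall_mem_cons.2 ⟨isT_single _, List.forall_mem_cons.2 ⟨isT_single _,
  List.forall_mem_cons.2 ⟨isT_single _, List.forall_mem_cons.2 ⟨isT_single _, List.forall_mem_cons.2 ⟨isT_single _,
  fun _ h => absurd h List.not_mem_nil⟩⟩⟩⟩⟩⟩⟩⟩⟩⟩⟩⟩⟩⟩⟩
theorem dec : decChk CS EX [[97]] bl bl' [(0, 0), (4, 1), (4, 1), (2, 1), (2, 1), (1, 1), (3, 2), (1, 2), (3, 3), (3,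
  3), (3, 2), (2, 1), (2, 1), (4, 1), (4, 1)] = true := by decide +kernel
theorem nor : norChk CS bl bl' [[1, 3, 2, 7, 4, 2], [10, 11]] TT [0, 0, 0, 0, 0, 0, 0, 1] 309485018138054446161468941
  309485018138054446161468941 [(5, 0), (9, 1), (9, 1), (8, 1), (8, 1), (7, 1), (10, 2), (7, 2), (10, 3), (10, 3), (10,
  2), (8, 1), (8, 1), (9, 1), (9, 1)] [(5, 0), (9, 1), (9, 1), (8, 1), (8, 1), (7, 1), (10, 2), (7, 2), (10, 3), (10,
  3), (10, 2), (8, 1), (8, 1), (9, 1), (9, 1)] = true := by decide +kernel
theorem pro : proChk (CS ++ EX) [100433627766186892221372630771322662657641349168350354372329] [(13, 0), (12, 0), (14,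
  1), (14, 1), (0, 1), (4, 2), (0, 2), (4, 3), (4, 3), (2, 3), (4, 3), (2, 3), (2, 3), (14, 4), (1, 4), (3, 5), (2,
  5), (1, 5), (3, 6), (1, 6), (3, 7), (14, 8), (3, 7), (1, 6), (3, 7), (3, 7), (3, 6), (14, 7), (14, 7), (4, 7), (2,
  7), (3, 7), (2, 6), (2, 6), (14, 7), (4, 7), (4, 7), (4, 6), (2, 6), (4, 6), (4, 6), (14, 7), (4, 7), (2, 7), (2,
  7), (14, 7), (4, 7), (14, 6), (4, 6), (2, 6), (3, 6), (1, 6), (0, 6), (0, 5), (4, 6), (2, 6), (1, 6), (3, 7), (4,
  8), (2, 8), (1, 4), (3, 5), (3, 5), (3, 2), (2, 0)] 1 = true := by decide +kernel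
theorem fix : fixChk (CS ++ EX) [0, 7, 8, 9, 10, 11, 12, 13, 14, 15, 16, 17, 18, 19, 20, 21, 22, 23, 24, 25, 26, 27,
  28, 29, 30, 31, 32, 33, 34, 35, 36, 37, 38, 39] [(13, 33), (13, 33), (13, 33), (13, 33), (13, 33), (13, 33), (13,
  33), (13, 33), (13, 33), (13, 33), (13, 33), (13, 33), (13, 33), (13, 33), (13, 33), (13, 33), (13, 33), (13, 33),
  (13, 33), (13, 33), (13, 33), (13, 33), (13, 33), (13, 33), (13, 33), (13, 33), (13, 33), (13, 33), (13, 33), (13,
  33), (13, 33), (13, 33), (13, 33), (14, 32), (14, 32), (14, 32), (14, 32), (14, 32), (14, 32), (14, 30), (14, 28),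
  (14, 27), (14, 26), (14, 25), (14, 24), (14, 23), (14, 23), (14, 22), (14, 22), (0, 15), (4, 16), (0, 16), (4, 17),
  (0, 17), (0, 17), (0, 17), (4, 18), (0, 18), (4, 18), (4, 18), (4, 18), (0, 18), (4, 19), (4, 19), (4, 19), (0, 19),
  (4, 20), (0, 19), (0, 19), (4, 19), (2, 19), (4, 19), (2, 15)] = true := by decide +kernel
theorem big : Big (grp (CS ++ EX)) := big_of_chk valid (st := [(13, 0), (12, 0), (14, 1), (14, 1), (0, 1), (4, 2), (0,
  2), (4, 3), (4, 3), (2, 3), (4, 3), (2, 3), (2, 3), (14, 4), (1, 4), (3, 5), (2, 5), (1, 5), (3, 6), (1, 6), (3, 7),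
  (14, 8), (3, 7), (1, 6), (3, 7), (3, 7)]) (by decide +kernel)
theorem ok : CaseOK (grp (CS ++ EX)) (spn (bl.map lm)) ∧ key (spn (bl.map lm)) = (16, 0) :=
  have h := case_of_chk valid dec nor (ne_of_proChk valid pro) (fix_of_chk valid fix)
  ⟨h.1, h.2.trans (rfl)⟩

end Cfsg.Agent.E72.CD6
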